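import Groth.Agent.Lib.BigH028.Basic
import Groth.Prelude.Def_CGrpSh

/-!
# Degree zero cohomology of the sheaf of points
-/

set_option autoImplicit false
set_option linter.style.haveILetI false

universe u

open CategoryTheory CategoryTheory.Limits AlgebraicGeometry Opposite MonObj

namespace GrothLib.BigH028

variable (K : Precoverage Scheme.{u}) {S : Scheme.{u}} [(QuotSh.J K S).Subcanonical]
  (G : Over S) [GrpObj G] [IsCommMonObj G]

/-- Degree-zero classes over `U` are points over `U`. -/
noncomputable def point (U : Over S) (x : BigSite.HU K (CGrpSh.pts K G) 0 U) : U ⟶ G :=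
  (CGrpSh.sectEquiv K G U (sectEquivHU (CGrpSh.pts K G) U x)).toMul

/-- The class of a point. -/
noncomputable def ofPoint (U : Over S) (f : U ⟶ G) : BigSite.HU K (CGrpSh.pts K G) 0 U :=
  (sectEquivHU (CGrpSh.pts K G) U).symm ((CGrpSh.sectEquiv K G U).symm (Additive.ofMul f))

theorem point_ofPoint (U : Over S) (f : U ⟶ G) : point K G U (ofPoint K G U f) = f := by
  rw [point, ofPoint, AddEquiv.apply_symm_apply, AddEquiv.apply_symm_apply]
  rfl

theorem point_injective (U : Over S) : Function.Injective (point K G U) := fun x y h => by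
  simp only [point] at h
  exact (sectEquivHU (CGrpSh.pts K G) U).injective ((CGrpSh.sectEquiv K G U).injective (Additive.toMul.injective h))

theorem point_resHU {U U' : Over S} (g : U' ⟶ U) (x : BigSite.HU K (CGrpSh.pts K G) 0 U) :
    point K G U' (HRes.resHU K (CGrpSh.pts K G) 0 g x) = g ≫ point K G U x := by
  rw [point, sectEquivHU_resHU]
  rfl

end GrothLib.BigH028
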