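import Groth.Prelude.Def_HRes
import Mathlib.CategoryTheory.Sites.SheafCohomology.Basic

/-!
# Cohomology in degree zero on big sites
-/

set_option autoImplicit false
set_option linter.style.haveILetI false

universe u

open CategoryTheory CategoryTheory.Limits AlgebraicGeometry Opposite

namespace GrothLib.BigH028

variable {K : Precoverage Scheme.{u}} {S T : Scheme.{u}}

/-- The constant presheaf with value `ℤ`. -/
abbrev constZ (S : Scheme.{u}) : (Over S)ᵒᵖ ⥤ AddCommGrpCat.{u + 1} :=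
  (Functor.const _).obj (AddCommGrpCat.of (ULift.{u + 1} ℤ))

/-- The constant sheaf with value `ℤ`. -/
noncomputable abbrev constSh (K : Precoverage Scheme.{u}) (S : Scheme.{u}) : BigSite.Ab K S :=
  (constantSheaf (QuotSh.J K S) AddCommGrpCat.{u + 1}).obj (AddCommGrpCat.of (ULift.{u + 1} ℤ))

variable (K S) in
/-- The unit section of the constant sheaf. -/
noncomputable def one (U : Over S) : (constSh K S).obj.obj (op U) :=
  (toSheafify (QuotSh.J K S) (constZ S)).app (op U) ⟨1⟩

theorem equiv₀_mk₀ (F : BigSite.Ab K S) (φ : constSh K S ⟶ F) :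
    Sheaf.H.equiv₀ F Over.mkIdTerminal (Abelian.Ext.mk₀ φ) = φ.hom.app (op (Over.mk (𝟙 S))) (one K S _) := by
  simp only [Sheaf.H.equiv₀, AddEquiv.trans_apply]
  rw [show Abelian.Ext.addEquiv₀ (Abelian.Ext.mk₀ φ) = φ from Abelian.Ext.addEquiv₀.apply_symm_apply φ]
  rfl

variable (f : T ⟶ S)

theorem pullConst_inv_one (U : Over T) :
    (HRes.pullConst K f (AddCommGrpCat.of (ULift.{u + 1} ℤ))).inv.hom.app (op U) (one K T U) =
      one K S ((Over.map f).obj U) := by
  have h := NatTrans.congr_app ((Over.map f).toSheafify_pullbackSheafificationCompatibility AddCommGrpCat.{u + 1}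
    (QuotSh.J K T) (QuotSh.J K S) (constZ S)) (op U)
  rw [NatTrans.comp_app] at h
  have h' := ConcreteCategory.congr_hom h ⟨1⟩
  rw [ConcreteCategory.comp_apply] at h'
  simp only [one, HRes.pullConst, Iso.symm_inv, Iso.app_hom]
  exact h'

theorem one_map {U U' : Over S} (g : U' ⟶ U) : (constSh K S).obj.map g.op (one K S U) = one K S U' :=
  (ConcreteCategory.congr_hom ((toSheafify (QuotSh.J K S) (constZ S)).naturality g.op) ⟨1⟩).symm

/-- Restriction in degree zero is restriction of sections. -/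
theorem equiv₀_pull (F : BigSite.Ab K S) (g : (Over.map f).obj (Over.mk (𝟙 T)) ⟶ Over.mk (𝟙 S))
    (x : BigSite.H K S F 0) :
    Sheaf.H.equiv₀ ((BigSite.pullBig K f AddCommGrpCat.{u + 1}).obj F) Over.mkIdTerminal (HRes.pull K f F 0 x) =
      F.obj.map g.op (Sheaf.H.equiv₀ F Over.mkIdTerminal x) := by
  obtain ⟨φ, rfl⟩ : ∃ φ : constSh K S ⟶ F, Abelian.Ext.mk₀ φ = x :=
    ⟨Abelian.Ext.addEquiv₀ x, Abelian.Ext.addEquiv₀.symm_apply_apply x⟩
  rw [HRes.pull_apply, Abelian.Ext.mapExactFunctor_mk₀, Abelian.Ext.mk₀_comp_mk₀, equiv₀_mk₀, equiv₀_mk₀]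
  refine Eq.trans ?_ (ConcreteCategory.congr_hom (φ.hom.naturality g.op) (one K S _))
  refine Eq.trans ?_ (congrArg (φ.hom.app _) (one_map g).symm)
  exact congrArg (φ.hom.app (op ((Over.map f).obj (Over.mk (𝟙 T))))) (pullConst_inv_one f (Over.mk (𝟙 T)))

/-- The object over `S` underlying a member of the site of `U`. -/
noncomputable def selfIso (U : Over S) : (Over.map U.hom).obj (Over.mk (𝟙 U.left)) ≅ U :=
  Over.isoMk (Iso.refl _) (by simp)

/-- Degree-zero cohomology over an object is sections. -/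
noncomputable def sectEquivHU (F : BigSite.Ab K S) (U : Over S) : BigSite.HU K F 0 U ≃+ F.obj.obj (op U) :=
  (Sheaf.H.equiv₀ ((BigSite.pullBig K U.hom AddCommGrpCat.{u + 1}).obj F) Over.mkIdTerminal).trans
    (F.obj.mapIso (selfIso U).op.symm).addCommGroupIsoToAddEquiv

theorem sectEquivHU_resHU (F : BigSite.Ab K S) {U U' : Over S} (g : U' ⟶ U) (x : BigSite.HU K F 0 U) :
    sectEquivHU F U' (HRes.resHU K F 0 g x) = F.obj.map g.op (sectEquivHU F U x) := by
  let g' : (Over.map g.left).obj (Over.mk (𝟙 U'.left)) ⟶ Over.mk (𝟙 U.left) := Over.homMk g.left (by simp)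
  show F.obj.map (selfIso U').inv.op (Sheaf.H.equiv₀ ((BigSite.pullBig K U'.hom AddCommGrpCat.{u + 1}).obj F) Over.mkIdTerminal
      (Sheaf.H.map (HRes.pullIso K F g).hom 0 (HRes.pull K g.left ((BigSite.pullBig K U.hom AddCommGrpCat.{u + 1}).obj F) 0 x))) =
    F.obj.map g.op (F.obj.map (selfIso U).inv.op
      (Sheaf.H.equiv₀ ((BigSite.pullBig K U.hom AddCommGrpCat.{u + 1}).obj F) Over.mkIdTerminal x))
  rw [← Sheaf.H.equiv₀_naturality, equiv₀_pull g.left _ g']
  generalize Sheaf.H.equiv₀ ((BigSite.pullBig K U.hom AddCommGrpCat.{u + 1}).obj F) Over.mkIdTerminal x = y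
  simp only [HRes.pullIso, Iso.trans_hom, Iso.app_hom, CategoryTheory.GrothendieckTopology.overMapPullbackComp,
    CategoryTheory.GrothendieckTopology.overMapPullbackCongr]
  show F.obj.map _ (F.obj.map _ (F.obj.map _ (F.obj.map _ y))) = F.obj.map _ (F.obj.map _ y)
  simp only [← ConcreteCategory.comp_apply, ← Functor.map_comp]
  refine ConcreteCategory.congr_hom (congrArg F.obj.map ?_) y
  apply Quiver.Hom.unop_inj
  ext
  simp [g', selfIso]

end GrothLib.BigH028
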